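import Mathlib
import Cfsg.Agent.U34.Data

/-!
The field with sixteen elements as a table, with kernel-computable arithmetic.
-/

set_option autoImplicit false

namespace Cfsg.Agent.U34

/-- the product of two four-bit codes -/
def mulN (a b : ℕ) : ℕ := (mulTable >>> (4 * (16 * a + b))) &&& 15

/-- the field `𝔽₂[a]/(a⁴+a+1)` -/
structure F16 where
  /-- the code -/
  val : Fin 16
deriving DecidableEq

/-- the element with a given code -/
def ofNat16 (n : ℕ) : F16 := ⟨⟨n % 16, Nat.mod_lt _ (by norm_num)⟩⟩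

namespace F16

/-- codes and elements -/
def equivFin : Fin 16 ≃ F16 := ⟨F16.mk, F16.val, fun _ => rfl, fun _ => rfl⟩

instance : Fintype F16 := Fintype.ofEquiv _ equivFin

theorem card : Fintype.card F16 = 16 := Fintype.card_congr equivFin.symm

instance : Zero F16 := ⟨ofNat16 0⟩
instance : One F16 := ⟨ofNat16 1⟩
instance : Add F16 := ⟨fun a b => ofNat16 (a.val.val ^^^ b.val.val)⟩
instance : Mul F16 := ⟨fun a b => ofNat16 (mulN a.val.val b.val.val)⟩
instance : Neg F16 := ⟨fun a => a⟩
instance : Inv F16 := ⟨fun a => ofNat16 ((invTable >>> (4 * a.val.val)) &&& 15)⟩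

theorem add_assoc' : ∀ a b c : F16, a + b + c = a + (b + c) := by decide +kernel
theorem mul_assoc' : ∀ a b c : F16, a * b * c = a * (b * c) := by decide +kernel
theorem left_distrib' : ∀ a b c : F16, a * (b + c) = a * b + a * c := by decide +kernel
theorem add_comm' : ∀ a b : F16, a + b = b + a := by decide +kernel
theorem mul_comm' : ∀ a b : F16, a * b = b * a := by decide +kernel
theorem zero_add' : ∀ a : F16, 0 + a = a := by decide +kernel
theorem zero_mul' : ∀ a : F16, 0 * a = 0 := by decide +kernel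
theorem one_mul' : ∀ a : F16, 1 * a = a := by decide +kernel
theorem neg_add_cancel' : ∀ a : F16, -a + a = 0 := by decide +kernel
theorem mul_inv_cancel' : ∀ a : F16, a ≠ 0 → a * a⁻¹ = 1 := by decide +kernel
theorem inv_zero' : (0 : F16)⁻¹ = 0 := by decide +kernel

instance : CommRing F16 where
  add_assoc := add_assoc'
  zero_add := zero_add'
  add_zero a := (add_comm' a 0).trans (zero_add' a)
  add_comm := add_comm'
  left_distrib := left_distrib'
  right_distrib a b c := by rw [mul_comm', left_distrib', mul_comm' a, mul_comm' b]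
  zero_mul := zero_mul'
  mul_zero a := (mul_comm' a 0).trans (zero_mul' a)
  mul_assoc := mul_assoc'
  one_mul := one_mul'
  mul_one a := (mul_comm' a 1).trans (one_mul' a)
  neg_add_cancel := neg_add_cancel'
  mul_comm := mul_comm'
  nsmul := nsmulRec
  zsmul := zsmulRec

instance : Field F16 where
  exists_pair_ne := ⟨0, 1, by decide⟩
  mul_inv_cancel := mul_inv_cancel'
  inv_zero := inv_zero'
  nnqsmul := _
  nnqsmul_def := fun _ _ => rfl
  qsmul := _
  qsmul_def := fun _ _ => rfl

theorem ofNat16_val (a : F16) : ofNat16 a.val.val = a := by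
  obtain ⟨⟨n, hn⟩⟩ := a
  simp [ofNat16, Nat.mod_eq_of_lt hn]

theorem val_ofNat16 {n : ℕ} (h : n < 16) : (ofNat16 n).val.val = n := Nat.mod_eq_of_lt h

theorem ofNat16_inj {m n : ℕ} (hm : m < 16) (hn : n < 16) (h : ofNat16 m = ofNat16 n) : m = n := by
  rw [← val_ofNat16 hm, ← val_ofNat16 hn, h]

theorem ofNat16_add {m n : ℕ} (hm : m < 16) (hn : n < 16) :
    ofNat16 m + ofNat16 n = ofNat16 (m ^^^ n) := by
  change ofNat16 ((ofNat16 m).val.val ^^^ (ofNat16 n).val.val) = _
  rw [val_ofNat16 hm, val_ofNat16 hn]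

theorem ofNat16_mul {m n : ℕ} (hm : m < 16) (hn : n < 16) :
    ofNat16 m * ofNat16 n = ofNat16 (mulN m n) := by
  change ofNat16 (mulN (ofNat16 m).val.val (ofNat16 n).val.val) = _
  rw [val_ofNat16 hm, val_ofNat16 hn]

theorem mulN_lt (m n : ℕ) : mulN m n < 16 :=
  Nat.lt_succ_of_le (Nat.and_le_right)

theorem xor_lt {m n : ℕ} (hm : m < 16) (hn : n < 16) : m ^^^ n < 16 :=
  Nat.xor_lt_two_pow (n := 4) hm hn

end F16

end Cfsg.Agent.U34
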