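import Cfsg.Agent.U34.Elements

/-!
The subgroup of `SU(3,4)` generated by `suX`, `suZ` together with its action on 832 oriented frames.
-/

set_option autoImplicit false

namespace Cfsg.Agent.U34

open Cfsg Matrix

/-- bounded universal quantifier, evaluated by the kernel -/
def allLt (n : ℕ) (f : ℕ → Bool) : Bool := Nat.rec true (fun k b => b && f k) n

theorem allLt_spec {n : ℕ} {f : ℕ → Bool} (h : allLt n f = true) : ∀ k < n, f k = true := by
  induction n with
  | zero => exact fun k hk => absurd hk (Nat.not_lt_zero k)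
  | succ n ih =>
    intro k hk
    have h' : allLt n f = true ∧ f n = true := Bool.and_eq_true_iff.mp h
    rcases Nat.lt_succ_iff_lt_or_eq.mp hk with hk | rfl
    exacts [ih h'.1 k hk, h'.2]

/-- the frame with index `k` -/
def frame (k : ℕ) : ℕ := (frameTable >>> (36 * k)) &&& 0xfffffffff

/-- the image of frame `k` in a packed permutation -/
def permOf (t k : ℕ) : ℕ := (t >>> (10 * k)) &&& 1023

/-- the scalar `wᵉ` -/
def omegaPow (e : ℕ) : ℕ := if e = 0 then 1 else if e = 1 then 6 else 7

/-- the scalar exponent for frame `k` in a packed list -/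
def phaseOf (t k : ℕ) : ℕ := (t >>> (2 * k)) &&& 3

/-- an entry of a product of coded matrices -/
def dotN (a b i j : ℕ) : ℕ :=
  mulN (entry a i 0) (entry b 0 j) ^^^ mulN (entry a i 1) (entry b 1 j) ^^^
    mulN (entry a i 2) (entry b 2 j)

theorem toMat_mul_apply (a b : ℕ) (i j : Fin 3) :
    (toMat a * toMat b) i j = ofNat16 (dotN a b i j) := by
  simp only [Matrix.mul_apply, Fin.sum_univ_three, toMat_apply, dotN, Fin.val_zero, Fin.val_one,
    Fin.val_two]
  rw [F16.ofNat16_mul (entry_lt _ _ _) (entry_lt _ _ _), F16.ofNat16_mul (entry_lt _ _ _) (entry_lt _ _ _),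
    F16.ofNat16_mul (entry_lt _ _ _) (entry_lt _ _ _), F16.ofNat16_add (F16.mulN_lt _ _) (F16.mulN_lt _ _),
    F16.ofNat16_add (F16.xor_lt (F16.mulN_lt _ _) (F16.mulN_lt _ _)) (F16.mulN_lt _ _)]

/-- whether `g·D_k = c·(D_{π k}·g)` for all entries -/
def movesTo (g t s k : ℕ) : Bool :=
  decide (permOf t k < 832) &&
    allLt 9 fun p => dotN g (frame k) (p / 3) (p % 3) ==
      mulN (omegaPow (phaseOf s k)) (dotN (frame (permOf t k)) g (p / 3) (p % 3))

theorem movesX_all : allLt 832 (movesTo gx permX phaseX) = true := by decide +kernel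
theorem movesZ_all : allLt 832 (movesTo gz permZ phaseZ) = true := by decide +kernel

theorem omegaPow_cube (e : ℕ) : ofNat16 (omegaPow e) ^ 3 = 1 := by
  unfold omegaPow
  split_ifs <;> decide +kernel

theorem omegaPow_lt (e : ℕ) : omegaPow e < 16 := by
  unfold omegaPow
  split_ifs <;> norm_num

/-- the matrix of a frame -/
def frameMat (k : Fin 832) : Matrix (Fin 3) (Fin 3) F16 := toMat (frame k)

theorem moves_spec {g t s : ℕ} (h : allLt 832 (movesTo g t s) = true) (k : Fin 832) :
    ∃ l : Fin 832, (l : ℕ) = permOf t k ∧ ∃ c : F16, c ^ 3 = 1 ∧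
      toMat g * frameMat k = c • (frameMat l * toMat g) := by
  have hk := allLt_spec h k k.isLt
  simp only [movesTo, Bool.and_eq_true, decide_eq_true_eq] at hk
  refine ⟨⟨_, hk.1⟩, rfl, _, omegaPow_cube (phaseOf s k), ?_⟩
  ext i j
  have hp := allLt_spec hk.2 (3 * i.val + j.val) (by omega)
  rw [show (3 * i.val + j.val) / 3 = i.val by omega, show (3 * i.val + j.val) % 3 = j.val by omega,
    beq_iff_eq] at hp
  rw [frameMat, toMat_mul_apply, hp, Matrix.smul_apply, frameMat, toMat_mul_apply, smul_eq_mul,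
    F16.ofNat16_mul (omegaPow_lt _) ?_]
  exact F16.xor_lt (F16.xor_lt (F16.mulN_lt _ _) (F16.mulN_lt _ _)) (F16.mulN_lt _ _)

/-- a frame times `wᵉ`, recoded -/
def scaleCode (c a : ℕ) : ℕ :=
  Nat.rec 0 (fun p s => s + (mulN c (entry a (p / 3) (p % 3)) <<< (4 * p))) 9

/-- the frames are recoded faithfully, are least in their scalar class and increase -/
def frameOk (k : ℕ) : Bool :=
  scaleCode 1 (frame k) == frame k && decide (frame k < scaleCode 6 (frame k)) &&
    decide (frame k < scaleCode 7 (frame k)) && decide (k = 0 ∨ frame (k - 1) < frame k)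

theorem frameOk_all : allLt 832 frameOk = true := by decide +kernel

theorem frameOk_spec (k : Fin 832) : scaleCode 1 (frame k) = frame k ∧
    frame k < scaleCode 6 (frame k) ∧ frame k < scaleCode 7 (frame k) ∧
    ((k : ℕ) = 0 ∨ frame (k - 1) < frame k) := by
  have := allLt_spec frameOk_all k k.isLt
  simp only [frameOk, Bool.and_eq_true, decide_eq_true_eq, beq_iff_eq] at this
  exact ⟨this.1.1.1, this.1.1.2, this.1.2, this.2⟩

theorem frame_lt {k l : ℕ} (hl : l < 832) (h : k < l) : frame k < frame l := by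
  induction l with
  | zero => omega
  | succ l ih =>
    have h1 : frame l < frame (l + 1) := by
      rcases (frameOk_spec ⟨l + 1, hl⟩).2.2.2 with h0 | h0
      · simp at h0
      · simpa using h0
    rcases Nat.lt_succ_iff_lt_or_eq.mp h with h2 | rfl
    exacts [(ih (by omega) h2).trans h1, h1]

theorem scaleCode_congr {c d a b : ℕ} (h : ∀ i j : Fin 3,
    mulN c (entry a i j) = mulN d (entry b i j)) : scaleCode c a = scaleCode d b := by
  have key : ∀ p < 9, mulN c (entry a (p / 3) (p % 3)) = mulN d (entry b (p / 3) (p % 3)) :=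
    fun p hp => h ⟨p / 3, by omega⟩ ⟨p % 3, by omega⟩
  have step : ∀ n ≤ 9,
      (Nat.rec 0 (fun p s => s + (mulN c (entry a (p / 3) (p % 3)) <<< (4 * p))) n : ℕ) =
        Nat.rec 0 (fun p s => s + (mulN d (entry b (p / 3) (p % 3)) <<< (4 * p))) n := by
    intro n
    induction n with
    | zero => intro _; rfl
    | succ n ih =>
      intro hn
      change _ + _ = _ + _
      rw [ih (by omega), key n (by omega)]
  exact step 9 le_rfl

theorem cube_roots : ∀ c : F16, c ^ 3 = 1 → c = ofNat16 1 ∨
    (c = ofNat16 6 ∧ c * ofNat16 7 = 1) ∨ (c = ofNat16 7 ∧ c * ofNat16 6 = 1) := by decide +kernel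

theorem frameMat_inj {k l : Fin 832} {c : F16} (hc : c ^ 3 = 1) (h : frameMat k = c • frameMat l) :
    k = l := by
  have conv : ∀ (m n : Fin 832) (e : ℕ), e < 16 → frameMat m = ofNat16 e • frameMat n →
      frame m = scaleCode e (frame n) := fun m n e he hmn => by
    rw [← (frameOk_spec m).1]
    refine scaleCode_congr fun i j => F16.ofNat16_inj (F16.mulN_lt _ _) (F16.mulN_lt _ _) ?_
    have h1 := congrFun (congrFun hmn i) j
    rw [← F16.ofNat16_mul (by norm_num) (entry_lt _ _ _), ← F16.ofNat16_mul he (entry_lt _ _ _)]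
    simpa [frameMat, Matrix.smul_apply, toMat_apply, show ofNat16 1 = (1 : F16) from rfl] using h1
  have back : ∀ d, c * d = 1 → frameMat l = d • frameMat k := fun d hd => by
    rw [h, smul_smul, mul_comm, hd, one_smul]
  rcases cube_roots c hc with rfl | ⟨rfl, h2⟩ | ⟨rfl, h2⟩
  · have := (conv k l 1 (by norm_num) h).trans (frameOk_spec l).1
    rcases lt_trichotomy (k : ℕ) l with hkl | hkl | hkl
    · exact absurd this (frame_lt l.isLt hkl).ne
    · exact Fin.ext hkl
    · exact absurd this (frame_lt k.isLt hkl).ne'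
  · have h1 := conv k l 6 (by norm_num) h
    have h3 := conv l k 7 (by norm_num) (back _ h2)
    have := (frameOk_spec l).2.1
    have := (frameOk_spec k).2.2.1
    omega
  · have h1 := conv k l 7 (by norm_num) h
    have h3 := conv l k 6 (by norm_num) (back _ h2)
    have := (frameOk_spec l).2.2.1
    have := (frameOk_spec k).2.1
    omega

/-- pairs of a matrix and a permutation of the frames that it induces -/
def compat : Subgroup (SU 3 F16 4 × Equiv.Perm (Fin 832)) where
  carrier := {h | ∀ k, ∃ c : F16, c ^ 3 = 1 ∧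
    h.1.1.1 * frameMat k = c • (frameMat (h.2 k) * h.1.1.1)}
  one_mem' k := ⟨1, one_pow 3, by simp⟩
  mul_mem' := by
    rintro ⟨a, s⟩ ⟨b, t⟩ ha hb k
    obtain ⟨c, hc, h1⟩ := hb k
    obtain ⟨d, hd, h2⟩ := ha (t k)
    refine ⟨d * c, by rw [mul_pow, hc, hd, one_mul], ?_⟩
    change a.1.1 * b.1.1 * frameMat k = (d * c) • (frameMat (s (t k)) * (a.1.1 * b.1.1))
    calc a.1.1 * b.1.1 * frameMat k = c • (a.1.1 * frameMat (t k) * b.1.1) := by
          rw [mul_assoc, h1, mul_smul_comm, mul_assoc]
      _ = _ := by rw [h2, smul_mul_assoc, smul_smul, mul_assoc, mul_comm d c]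
  inv_mem' := by
    rintro ⟨a, s⟩ ha k
    obtain ⟨c, hc, h1⟩ := ha (s⁻¹ k)
    refine ⟨c ^ 2, by rw [← pow_mul, mul_comm, pow_mul, hc, one_pow], ?_⟩
    change (a⁻¹).1.1 * frameMat k = c ^ 2 • (frameMat (s⁻¹ k) * (a⁻¹).1.1)
    have hs : s (s⁻¹ k) = k := s.apply_symm_apply k
    simp only at h1
    rw [hs] at h1
    have e1 : (a⁻¹).1.1 * a.1.1 = 1 := congrArg (fun y : SU 3 F16 4 => y.1.1) (inv_mul_cancel a)
    have e2 : a.1.1 * (a⁻¹).1.1 = 1 := congrArg (fun y : SU 3 F16 4 => y.1.1) (mul_inv_cancel a)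
    have h4 := congrArg (fun M => c ^ 2 • ((a⁻¹).1.1 * M * (a⁻¹).1.1)) h1
    simp only [mul_smul_comm, smul_mul_assoc, smul_smul, ← mul_assoc, e1, one_mul] at h4
    rw [← pow_succ, hc, one_smul, mul_assoc, mul_assoc, e2, mul_one] at h4
    exact h4.symm

theorem compat_unique {h h' : SU 3 F16 4 × Equiv.Perm (Fin 832)} (hh : h ∈ compat)
    (hh' : h' ∈ compat) (he : h.1 = h'.1) : h = h' := by
  refine Prod.ext he (Equiv.ext fun k => ?_)
  obtain ⟨c, hc, h1⟩ := hh k
  obtain ⟨d, hd, h2⟩ := hh' k
  rw [← he, h1] at h2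
  have e2 : h.1.1.1 * (h.1⁻¹).1.1 = 1 :=
    congrArg (fun y : SU 3 F16 4 => y.1.1) (mul_inv_cancel h.1)
  have h3 := congrArg (fun M => c ^ 2 • (M * (h.1⁻¹).1.1)) h2
  simp only [smul_mul_assoc, smul_smul, mul_assoc, e2, mul_one] at h3
  rw [← pow_succ, hc, one_smul] at h3
  exact frameMat_inj (by rw [mul_pow, ← pow_mul, mul_comm 2 3, pow_mul, hc, one_pow, one_mul, hd]) h3

/-- the permutation of frames with a packed table -/
noncomputable def framePerm {g t s : ℕ} (h : allLt 832 (movesTo g t s) = true)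
    (G : Matrix.SpecialLinearGroup (Fin 3) F16) (hG : G.1 = toMat g) : Equiv.Perm (Fin 832) :=
  Equiv.ofBijective (fun k => Classical.choose (moves_spec h k)) (Finite.injective_iff_bijective.mp
    fun k l hkl => by
      obtain ⟨-, c, hc, h1⟩ := Classical.choose_spec (moves_spec h k)
      obtain ⟨-, d, hd, h2⟩ := Classical.choose_spec (moves_spec h l)
      rw [← hkl] at h2
      have e : (G⁻¹).1 * toMat g = 1 := by
        rw [← hG]; exact congrArg Subtype.val (inv_mul_cancel G)
      have h3 : toMat g * frameMat k = (c * d ^ 2) • (toMat g * frameMat l) := by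
        rw [h1, h2, smul_smul, mul_assoc, ← pow_succ, hd, mul_one]
      have h4 := congrArg (fun M => (G⁻¹).1 * M) h3
      simp only [mul_smul_comm, ← mul_assoc, e, one_mul] at h4
      exact frameMat_inj (by rw [mul_pow, ← pow_mul, mul_comm 2 3, pow_mul, hd, one_pow, mul_one, hc]) h4)

/-- the action of `suX` -/
noncomputable def permutX : Equiv.Perm (Fin 832) := framePerm movesX_all slX rfl
/-- the action of `suZ` -/
noncomputable def permutZ : Equiv.Perm (Fin 832) := framePerm movesZ_all slZ rfl

theorem permutX_val (k : Fin 832) : (permutX k : ℕ) = permOf permX k :=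
  (Classical.choose_spec (moves_spec movesX_all k)).1
theorem permutZ_val (k : Fin 832) : (permutZ k : ℕ) = permOf permZ k :=
  (Classical.choose_spec (moves_spec movesZ_all k)).1

theorem genX_mem : (suX, permutX) ∈ compat := fun k =>
  (Classical.choose_spec (moves_spec movesX_all k)).2
theorem genZ_mem : (suZ, permutZ) ∈ compat := fun k =>
  (Classical.choose_spec (moves_spec movesZ_all k)).2

/-- the group generated by the two elements with their permutations -/
noncomputable def frameGroup : Subgroup (SU 3 F16 4 × Equiv.Perm (Fin 832)) :=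
  Subgroup.closure {(suX, permutX), (suZ, permutZ)}

theorem frameGroup_le : frameGroup ≤ compat := by
  rw [frameGroup, Subgroup.closure_le]
  rintro _ (rfl | rfl)
  exacts [genX_mem, genZ_mem]

/-- the embedding in `SU(3,4)` -/
noncomputable def toSU : frameGroup →* SU 3 F16 4 :=
  (MonoidHom.fst _ _).comp frameGroup.subtype

/-- the action on frames -/
noncomputable def toPerm : frameGroup →* Equiv.Perm (Fin 832) :=
  (MonoidHom.snd _ _).comp frameGroup.subtype

theorem toSU_injective : Function.Injective toSU := fun a b h =>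
  Subtype.ext (compat_unique (frameGroup_le a.2) (frameGroup_le b.2) h)

end Cfsg.Agent.U34
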