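import Cfsg.Prelude.Def_Classical
import Cfsg.Agent.Classical.HermGroup

/-!
`SU(3,4)` has order `62400` and trivial centre, so equals `PSU(3,4)`; it only depends on the field
up to isomorphism.
-/

set_option autoImplicit false

namespace Cfsg.Agent.U34

open Cfsg Cfsg.Agent.Classical

/-- the map of special linear groups induced by a ring homomorphism preserves the Hermitian group -/
theorem map_mem_SU {F K : Type*} [Field F] [Field K] (n q : ℕ) (e : F ≃+* K)
    (g : Matrix.SpecialLinearGroup (Fin n) F) (hg : g ∈ SU n F q) :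
    Matrix.SpecialLinearGroup.map (e : F →+* K) g ∈ SU n K q := by
  intro u v
  have hh : ∀ a b : Fin n → F,
      hermForm n K q (fun i => e (a i)) (fun i => e (b i)) = e (hermForm n F q a b) := fun a b => by
    simp [hermForm, map_sum]
  have hmv : ∀ a : Fin n → F,
      (slToMat n K (Matrix.SpecialLinearGroup.map (e : F →+* K) g)).mulVec (fun i => e (a i))
        = fun i => e ((slToMat n F g).mulVec a i) := fun a => by
    funext i
    simp [Matrix.mulVec, dotProduct, map_sum, Matrix.SpecialLinearGroup.map]
    rfl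
  have hu : u = fun i => e ((fun i => e.symm (u i)) i) := by simp
  have hv : v = fun i => e ((fun i => e.symm (v i)) i) := by simp
  rw [hu, hv, hmv, hmv, hh, hh, hg]

/-- `SU(n,q)` over isomorphic fields. -/
noncomputable def mapSU {F K : Type*} [Field F] [Field K] (n q : ℕ) (e : F ≃+* K) :
    SU n F q ≃* SU n K q where
  toFun g := ⟨_, map_mem_SU n q e g g.2⟩
  invFun g := ⟨_, map_mem_SU n q e.symm g g.2⟩
  left_inv g := Subtype.ext (Subtype.ext (Matrix.ext fun i j => by
    show e.symm (e _) = _
    exact e.symm_apply_apply _))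
  right_inv g := Subtype.ext (Subtype.ext (Matrix.ext fun i j => by
    show e (e.symm _) = _
    exact e.apply_symm_apply _))
  map_mul' g h := Subtype.ext (map_mul (Matrix.SpecialLinearGroup.map (e : F →+* K)) g.1 h.1)

theorem card_SU34 {F : Type*} [Field F] [Fintype F] (hF : Fintype.card F = 16) :
    Nat.card (SU 3 F 4) = 62400 := by
  obtain ⟨σ, hσq, hσ, hq, -⟩ := exists_powHom (F := F) (q := 4) (by rw [hF]; norm_num)
  have h := card_SU_mul_eq_GU (n := 3) hσ hσq hq (by norm_num)
  rw [card_GU_formula hσ hσq hq] at h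
  simp [Finset.prod_range_succ, Nat.even_iff] at h
  omega

theorem center_SU34 {F : Type*} [Field F] [Fintype F] (hF : Fintype.card F = 16) :
    Subgroup.center (SU 3 F 4) = ⊥ := by
  obtain ⟨σ, hσq, hσ, hq, -⟩ := exists_powHom (F := F) (q := 4) (by rw [hF]; norm_num)
  have h := card_center_SU (n := 3) hσ hσq hq (by norm_num)
  exact Subgroup.card_eq_one.mp (h.trans (by norm_num))

/-- `PSU(3,4) = SU(3,4)` -/
noncomputable def psuEquiv {F : Type*} [Field F] [Fintype F] (hF : Fintype.card F = 16) :
    PSU 3 F 4 ≃* SU 3 F 4 :=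
  (QuotientGroup.quotientMulEquivOfEq (center_SU34 hF)).trans QuotientGroup.quotientBot

end Cfsg.Agent.U34
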