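import Cfsg.Agent.U34.Frames

/-!
The twelve dimensional submodule of the permutation module on frames, on which elements of order
13 fix only zero.
-/

set_option autoImplicit false

namespace Cfsg.Agent.U34

open Cfsg

/-- coordinate `k` of basis vector `i` -/
def basisN (i k : ℕ) : ℕ := (basisTable >>> (4 * (12 * k + i))) &&& 15

/-- a coefficient in a packed twelve by twelve table -/
def coefN (t i j : ℕ) : ℕ := (t >>> (4 * (12 * i + j))) &&& 15

/-- summation evaluated by the kernel -/
def sumLt (n : ℕ) (f : ℕ → ℕ) : ℕ := Nat.rec 0 (fun k s => s + f k) n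

theorem sumLt_eq (n : ℕ) (f : ℕ → ℕ) : sumLt n f = ∑ k ∈ Finset.range n, f k := by
  induction n with
  | zero => rfl
  | succ n ih => rw [Finset.sum_range_succ, ← ih]; rfl

/-- whether basis vector `i` moved by a permutation is the tabulated combination, at frame `k` -/
def combOk (p t k : ℕ) : Bool :=
  allLt 12 fun i => sumLt 12 (fun j => coefN t i j * basisN j k) % 5 == basisN i (permOf p k) % 5

/-- `n` steps along a packed permutation -/
def orbitAt (p k n : ℕ) : ℕ := Nat.rec k (fun _ l => permOf p l) n

/-- whether the sums of the basis along an orbit of `suX` vanish -/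
def normOk (k : ℕ) : Bool :=
  allLt 12 fun i => sumLt 13 (fun n => basisN i (orbitAt permX k n)) % 5 == 0

theorem combX_all : allLt 832 (combOk permX coefX) = true := by decide +kernel
theorem combZ_all : allLt 832 (combOk permZ coefZ) = true := by decide +kernel
theorem normOk_all : allLt 832 normOk = true := by decide +kernel

/-- vectors -/
abbrev FrameVec := Fin 832 → ZMod 5

/-- the basis vectors -/
def basisVec (i : Fin 12) : FrameVec := fun k => (basisN i k : ℕ)

theorem basisVec_ne_zero : basisVec 0 ≠ 0 := by
  intro h
  have h1 := congrFun h 0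
  revert h1
  decide +kernel

/-- the submodule -/
def frameSub : AddSubgroup FrameVec := AddSubgroup.closure (Set.range basisVec)

theorem comp_mem_of_comb {p t : ℕ} (h : allLt 832 (combOk p t) = true) (σ : Equiv.Perm (Fin 832))
    (hσ : ∀ k, (σ k : ℕ) = permOf p k) : ∀ f ∈ frameSub, f ∘ σ ∈ frameSub := by
  intro f hf
  induction hf using AddSubgroup.closure_induction with
  | mem f hf =>
    obtain ⟨i, rfl⟩ := hf
    have he : basisVec i ∘ σ = ∑ j : Fin 12, coefN t i j • basisVec j := by
      funext k
      have hk := allLt_spec (allLt_spec h k k.isLt) i i.isLt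
      simp only [beq_iff_eq, sumLt_eq] at hk
      rw [Finset.sum_apply]
      simp only [Function.comp_apply, basisVec, hσ, Pi.smul_apply, nsmul_eq_mul]
      rw [← (ZMod.natCast_eq_natCast_iff' _ _ _).mpr hk, Nat.cast_sum,
        ← Fin.sum_univ_eq_sum_range]
      simp only [Nat.cast_mul]
    rw [he]
    exact sum_mem fun j _ => nsmul_mem (AddSubgroup.subset_closure (Set.mem_range_self j)) _
  | zero => exact zero_mem _
  | add f g _ _ hf hg => exact add_mem hf hg
  | neg f _ hf => exact neg_mem hf

theorem norm_eq_zero {f : FrameVec} (hf : f ∈ frameSub) (k : Fin 832) :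
    ∑ n ∈ Finset.range 13, f ((permutX ^ n) k) = 0 := by
  induction hf using AddSubgroup.closure_induction with
  | mem f hf =>
    obtain ⟨i, rfl⟩ := hf
    have hn := allLt_spec (allLt_spec normOk_all k k.isLt) i i.isLt
    simp only [beq_iff_eq, sumLt_eq] at hn
    have horb : ∀ n, (((permutX ^ n) k : Fin 832) : ℕ) = orbitAt permX k n := fun n => by
      induction n with
      | zero => rfl
      | succ n ih => rw [pow_succ', Equiv.Perm.mul_apply, permutX_val, ih]; rfl
    simp only [basisVec, horb, ← Nat.cast_sum]
    rw [← ZMod.natCast_mod, hn, Nat.cast_zero]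
  | zero => simp
  | add f g _ _ hf hg => simp [Finset.sum_add_distrib, hf, hg]
  | neg f _ hf => simp [Finset.sum_neg_distrib, hf]

theorem eq_zero_of_fixed {f : FrameVec} (hf : f ∈ frameSub) (h : f ∘ permutX = f) : f = 0 := by
  have h13 : ((13 : ℕ) : ZMod 5) ≠ 0 := by decide
  have : Fact (Nat.Prime 5) := ⟨by norm_num⟩
  funext k
  have hfix : ∀ n, f ((permutX ^ n) k) = f k := fun n => by
    induction n with
    | zero => rfl
    | succ n ih => rw [pow_succ', Equiv.Perm.mul_apply]; exact (congrFun h _).trans ih
  have h1 := norm_eq_zero hf k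
  rw [Finset.sum_congr rfl fun n _ => hfix n, Finset.sum_const, Finset.card_range, nsmul_eq_mul] at h1
  exact (mul_eq_zero.mp h1).resolve_left h13

/-- permutations preserving the submodule -/
def stabSub : Submonoid (Equiv.Perm (Fin 832)) where
  carrier := {σ | ∀ f ∈ frameSub, f ∘ σ ∈ frameSub}
  one_mem' f hf := hf
  mul_mem' {a b} ha hb f hf := hb _ (ha f hf)

theorem toPerm_mem (g : frameGroup) : toPerm g ∈ stabSub := by
  obtain ⟨g, hg⟩ := g
  change g.2 ∈ stabSub
  rw [frameGroup, ← Subgroup.mem_toSubmonoid, Subgroup.closure_toSubmonoid_of_finite] at hg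
  induction hg using Submonoid.closure_induction with
  | mem x hx =>
    rcases hx with rfl | rfl
    exacts [comp_mem_of_comb combX_all _ permutX_val, comp_mem_of_comb combZ_all _ permutZ_val]
  | one => exact one_mem _
  | mul x y _ _ hx hy => exact mul_mem hx hy

/-- the module as a multiplicative group -/
abbrev Mod : Type := Multiplicative frameSub

/-- the action on the module -/
noncomputable def modAction : frameGroup →* MulAut Mod where
  toFun g :=
    { toFun := fun v => Multiplicative.ofAdd
        ⟨v.toAdd.1 ∘ toPerm g⁻¹, toPerm_mem g⁻¹ _ v.toAdd.2⟩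
      invFun := fun v => Multiplicative.ofAdd ⟨v.toAdd.1 ∘ toPerm g, toPerm_mem g _ v.toAdd.2⟩
      left_inv := fun v => Multiplicative.toAdd.injective (Subtype.ext (funext fun k => by
        change v.toAdd.1 (toPerm g⁻¹ (toPerm g k)) = _
        rw [map_inv]
        exact congrArg _ ((toPerm g).symm_apply_apply k)))
      right_inv := fun v => Multiplicative.toAdd.injective (Subtype.ext (funext fun k => by
        change v.toAdd.1 (toPerm g (toPerm g⁻¹ k)) = _
        rw [map_inv]
        exact congrArg _ ((toPerm g).apply_symm_apply k)))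
      map_mul' := fun v w => rfl }
  map_one' := MulEquiv.ext fun v => Multiplicative.toAdd.injective (Subtype.ext (funext fun k => by
    change v.toAdd.1 (toPerm (1 : frameGroup)⁻¹ k) = _
    simp))
  map_mul' a b := MulEquiv.ext fun v => Multiplicative.toAdd.injective (Subtype.ext (funext fun k => by
    change v.toAdd.1 (toPerm (a * b)⁻¹ k) = v.toAdd.1 (toPerm b⁻¹ (toPerm a⁻¹ k))
    rw [mul_inv_rev, map_mul, Equiv.Perm.mul_apply]))

theorem modAction_apply (g : frameGroup) (v : Mod) :
    (modAction g v).toAdd.1 = v.toAdd.1 ∘ toPerm g⁻¹ := rfl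

end Cfsg.Agent.U34
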