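import Cfsg.Agent.U34.Cyclic

/-!
The centraliser of a cyclic matrix.
-/

set_option autoImplicit false

namespace Cfsg.Agent.U34

open Matrix

/-- equality of coded products, entry by entry -/
theorem toMat_apply (a : ℕ) (i j : Fin 3) : toMat a i j = ofNat16 (entry a i.val j.val) := rfl

theorem evalTri_one (x : Matrix (Fin 3) (Fin 3) F16) : evalTri x (1, 0, 0) = 1 := by simp [evalTri]

theorem evalTri_mul (x : Matrix (Fin 3) (Fin 3) F16) (r : Tri) (hx : x ^ 3 = evalTri x r) (u v : Tri) :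
    evalTri x u * evalTri x v = evalTri x (mulTri r u v) := by
  have h3 : x * x ^ 2 = evalTri x r := by rw [← pow_succ', hx]
  have h3' : x ^ 2 * x = evalTri x r := by rw [← pow_succ, hx]
  have h4 : x ^ 2 * x ^ 2 = r.1 • x + r.2.1 • x ^ 2 + r.2.2 • evalTri x r := by
    calc x ^ 2 * x ^ 2 = x * x ^ 3 := by rw [← pow_add, ← pow_succ']
      _ = _ := by
        rw [hx]
        simp only [evalTri, mul_add, mul_smul_comm, mul_one]
        rw [h3]; simp only [evalTri, pow_two]
  have h2' : x * x = x ^ 2 := (pow_two x).symm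
  simp only [evalTri] at h3 h3' h4
  simp only [evalTri, mul_add, add_mul, smul_mul_assoc, mul_smul_comm, one_mul, mul_one, h2',
    h3, h3', h4, mulTri]
  simp only [smul_add, smul_smul]
  module

theorem evalTri_pow (x : Matrix (Fin 3) (Fin 3) F16) (r : Tri) (hx : x ^ 3 = evalTri x r) (v : Tri)
    (n : ℕ) : evalTri x v ^ n = evalTri x (powTri r v n) := by
  induction n with
  | zero => rw [pow_zero, powTri, evalTri_one]
  | succ n ih => rw [pow_succ, ih, evalTri_mul x r hx, powTri]

/-- A matrix commuting with a cyclic matrix `x` is a polynomial in `x`. -/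
theorem exists_evalTri (x K L : Matrix (Fin 3) (Fin 3) F16) (hKL : K * L = 1)
    (h0 : ∀ i, K i 0 = (1 : Matrix (Fin 3) (Fin 3) F16) i 0) (h1 : ∀ i, K i 1 = x i 0)
    (h2 : ∀ i, K i 2 = (x ^ 2) i 0) (g : Matrix (Fin 3) (Fin 3) F16) (hg : g * x = x * g) :
    ∃ v, g = evalTri x v := by
  have col : ∀ v : Tri, ∀ i, evalTri x v i 0 = (K *ᵥ ![v.1, v.2.1, v.2.2]) i := by
    intro v i
    simp [evalTri, Matrix.mulVec, dotProduct, Fin.sum_univ_three, h0, h1, h2, mul_comm]
  obtain ⟨w, hw⟩ : ∃ w, w = L *ᵥ (fun i => g i 0) := ⟨_, rfl⟩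
  refine ⟨(w 0, w 1, w 2), ?_⟩
  set p := evalTri x (w 0, w 1, w 2) with hp
  have hc0 : ∀ i, g i 0 = p i 0 := fun i => by
    rw [hp, col]
    have : (![w 0, w 1, w 2] : Fin 3 → F16) = w := by
      ext j; fin_cases j <;> rfl
    rw [this, hw, mulVec_mulVec, hKL, one_mulVec]
  have hpx : p * x = x * p := by
    simp [hp, evalTri, add_mul, mul_add, ← pow_succ, ← pow_succ']
  have hgx2 : g * x ^ 2 = x ^ 2 * g := (Commute.pow_right (show Commute g x from hg) 2).eq
  have hpx2 : p * x ^ 2 = x ^ 2 * p := (Commute.pow_right (show Commute p x from hpx) 2).eq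
  have hm : ∀ A : Matrix (Fin 3) (Fin 3) F16, g * A = A * g → p * A = A * p →
      ∀ i, (g * A) i 0 = (p * A) i 0 := fun A hA hA' i => by
    rw [hA, hA']
    simp only [Matrix.mul_apply, hc0]
  have hgK : g * K = p * K := by
    ext i j
    fin_cases j
    · have := hm 1 (by simp) (by simp) i
      simpa [Matrix.mul_apply, h0] using this
    · have := hm x hg hpx i
      simpa [Matrix.mul_apply, h1] using this
    · have := hm (x ^ 2) hgx2 hpx2 i
      simpa [Matrix.mul_apply, h2] using this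
  calc g = g * (K * L) := by rw [hKL, mul_one]
    _ = p * (K * L) := by rw [← mul_assoc, hgK, mul_assoc]
    _ = p := by rw [hKL, mul_one]

/-- Elements of small order commuting with a cyclic matrix are scalar. -/
theorem eq_smul_one_of_commute (x K L : Matrix (Fin 3) (Fin 3) F16) (r : Tri)
    (hKL : K * L = 1)
    (h0 : ∀ i, K i 0 = (1 : Matrix (Fin 3) (Fin 3) F16) i 0) (h1 : ∀ i, K i 1 = x i 0)
    (h2 : ∀ i, K i 2 = (x ^ 2) i 0) (hx : x ^ 3 = evalTri x r) {n : ℕ}
    (hcheck : ∀ a b c : F16, powTri r (a, b, c) n = (1, 0, 0) → b = 0 ∧ c = 0)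
    (g : Matrix (Fin 3) (Fin 3) F16) (hg : g * x = x * g) (hn : g ^ n = 1) :
    ∃ a : F16, g = a • 1 := by
  obtain ⟨⟨a, b, c⟩, rfl⟩ := exists_evalTri x K L hKL h0 h1 h2 g hg
  rw [evalTri_pow x r hx] at hn
  have hinj : powTri r (a, b, c) n = (1, 0, 0) := by
    set v := powTri r (a, b, c) n
    have hv : ∀ i, (K *ᵥ ![v.1, v.2.1, v.2.2]) i = (K *ᵥ ![1, 0, 0]) i := fun i => by
      have := congrFun (congrFun hn i) 0
      simp [evalTri] at this
      simp [Matrix.mulVec, dotProduct, Fin.sum_univ_three, h0, h1, h2]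
      linear_combination this
    have hLK : L * K = 1 := mul_eq_one_comm.mp hKL
    have := congrArg (L *ᵥ ·) (funext hv)
    simp only [mulVec_mulVec, hLK, one_mulVec] at this
    exact Prod.ext (congrFun this 0) (Prod.ext (congrFun this 1) (congrFun this 2))
  obtain ⟨rfl, rfl⟩ := hcheck a b c hinj
  exact ⟨a, by simp [evalTri]⟩

end Cfsg.Agent.U34
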