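import Cfsg.Agent.U34.Field

/-!
Centralisers of cyclic matrices over the field with sixteen elements: a matrix commuting with a
matrix having a cyclic vector is a polynomial in it, so questions about its powers are decided in
a polynomial algebra.
-/

set_option autoImplicit false

namespace Cfsg.Agent.U34

open Matrix

/-- the entry `(i,j)` of a coded matrix -/
def entry (a i j : ℕ) : ℕ := (a >>> (4 * (3 * i + j))) &&& 15

/-- the matrix with a given code -/
def toMat (a : ℕ) : Matrix (Fin 3) (Fin 3) F16 := Matrix.of fun i j => ofNat16 (entry a i.val j.val)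

theorem entry_lt (a i j : ℕ) : entry a i j < 16 := Nat.lt_succ_of_le Nat.and_le_right

/-- coefficients of a polynomial of degree at most two -/
abbrev Tri := F16 × F16 × F16

/-- the polynomial in `x` with given coefficients -/
def evalTri (x : Matrix (Fin 3) (Fin 3) F16) (v : Tri) : Matrix (Fin 3) (Fin 3) F16 :=
  v.1 • 1 + v.2.1 • x + v.2.2 • x ^ 2

/-- multiplication modulo `x³ = r₀ + r₁ x + r₂ x²` -/
def mulTri (r u v : Tri) : Tri :=
  let c3 := u.2.1 * v.2.2 + u.2.2 * v.2.1
  let c4 := u.2.2 * v.2.2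
  let d3 := c3 + c4 * r.2.2
  (u.1 * v.1 + d3 * r.1,
    u.1 * v.2.1 + u.2.1 * v.1 + c4 * r.1 + d3 * r.2.1,
    u.1 * v.2.2 + u.2.1 * v.2.1 + u.2.2 * v.1 + c4 * r.2.1 + d3 * r.2.2)

/-- powers modulo `x³ = r₀ + r₁ x + r₂ x²` -/
def powTri (r v : Tri) : ℕ → Tri
  | 0 => (1, 0, 0)
  | n + 1 => mulTri r (powTri r v n) v

/-- the coefficients of `x³` from their code -/
def relTri (n : ℕ) : Tri :=
  (ofNat16 (n &&& 15), ofNat16 ((n >>> 4) &&& 15), ofNat16 ((n >>> 8) &&& 15))

theorem check_u : ∀ a b c : F16,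
    powTri (relTri relU) (a, b, c) 2 = (1, 0, 0) → b = 0 ∧ c = 0 := by decide +kernel

theorem check_x2 : ∀ a b c : F16,
    powTri (relTri relX) (a, b, c) 2 = (1, 0, 0) → b = 0 ∧ c = 0 := by decide +kernel

theorem check_x3 : ∀ a b c : F16,
    powTri (relTri relX) (a, b, c) 3 = (1, 0, 0) → b = 0 ∧ c = 0 := by decide +kernel

theorem check_x5 : ∀ a b c : F16,
    powTri (relTri relX) (a, b, c) 5 = (1, 0, 0) → b = 0 ∧ c = 0 := by decide +kernel

end Cfsg.Agent.U34
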