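import Cfsg.Agent.U34.Centraliser
import Cfsg.Agent.U34.Unitary

/-!
Explicit elements of `SU(3,4)` and the orders `pq` that do not occur in it.
-/

set_option autoImplicit false

namespace Cfsg.Agent.U34

open Cfsg Matrix

/-- an element of order 13 -/
def slX : Matrix.SpecialLinearGroup (Fin 3) F16 :=
  ⟨toMat gx, by rw [Matrix.det_fin_three]; decide +kernel⟩

/-- an element of order 15 -/
def slZ : Matrix.SpecialLinearGroup (Fin 3) F16 :=
  ⟨toMat gz, by rw [Matrix.det_fin_three]; decide +kernel⟩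

/-- an element of order 3 -/
def slU : Matrix.SpecialLinearGroup (Fin 3) F16 :=
  ⟨toMat gu, by rw [Matrix.det_fin_three]; decide +kernel⟩

/-- the unitary condition on columns -/
def colsUnitary (M : Matrix (Fin 3) (Fin 3) F16) : Prop :=
  ∀ a b, M 0 a * M 0 b ^ 4 + M 1 a * M 1 b ^ 4 + M 2 a * M 2 b ^ 4 = if a = b then 1 else 0

theorem mem_SU_of_cols (g : Matrix.SpecialLinearGroup (Fin 3) F16)
    (h : colsUnitary (g : Matrix (Fin 3) (Fin 3) F16)) : g ∈ SU 3 F16 4 := by
  obtain ⟨σ, hσq, hσ, hq, -⟩ :=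
    Classical.exists_powHom (F := F16) (q := 4) (by rw [F16.card]; norm_num)
  rw [Classical.mem_SU_iff hσq, Classical.preserves_iff_cols]
  intro i j
  simp only [Classical.hermB_apply, Matrix.mulVec_single, hσq, Fin.sum_univ_three]
  have := h j i
  simp only [eq_comm (a := i)]
  rw [← this]
  simp
  ring

theorem slX_mem : slX ∈ SU 3 F16 4 := mem_SU_of_cols _ (by unfold colsUnitary; decide +kernel)
theorem slZ_mem : slZ ∈ SU 3 F16 4 := mem_SU_of_cols _ (by unfold colsUnitary; decide +kernel)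
theorem slU_mem : slU ∈ SU 3 F16 4 := mem_SU_of_cols _ (by unfold colsUnitary; decide +kernel)

/-- the element of order 13 of `SU(3,4)` -/
def suX : SU 3 F16 4 := ⟨slX, slX_mem⟩
/-- the element of order 15 of `SU(3,4)` -/
def suZ : SU 3 F16 4 := ⟨slZ, slZ_mem⟩
/-- the element of order 3 of `SU(3,4)` -/
def suU : SU 3 F16 4 := ⟨slU, slU_mem⟩

theorem orderOf_suX : orderOf suX = 13 := by
  have : Fact (Nat.Prime 13) := ⟨by norm_num⟩
  apply orderOf_eq_prime <;> decide +kernel

theorem orderOf_suU : orderOf suU = 3 := by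
  have : Fact (Nat.Prime 3) := ⟨by norm_num⟩
  apply orderOf_eq_prime <;> decide +kernel

theorem orderOf_suZ : orderOf suZ = 15 := by
  refine (orderOf_eq_iff (by norm_num)).mpr ⟨by decide +kernel, ?_⟩
  decide +kernel

theorem orderOf_suY : orderOf (suX * suZ) = 10 := by
  refine (orderOf_eq_iff (by norm_num)).mpr ⟨by decide +kernel, ?_⟩
  decide +kernel

/-- an element of small order commuting with one of the cyclic elements is central, so trivial -/
theorem eq_one_of_commute (x : SU 3 F16 4) (K L : ℕ) (r : Tri)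
    (hKL : toMat K * toMat L = 1)
    (h0 : ∀ i, toMat K i 0 = (1 : Matrix (Fin 3) (Fin 3) F16) i 0)
    (h1 : ∀ i, toMat K i 1 = x.1.1 i 0)
    (h2 : ∀ i, toMat K i 2 = (x.1.1 ^ 2) i 0) (hx : x.1.1 ^ 3 = evalTri x.1.1 r) {n : ℕ}
    (hcheck : ∀ a b c : F16, powTri r (a, b, c) n = (1, 0, 0) → b = 0 ∧ c = 0)
    (g : SU 3 F16 4) (hg : Commute g x) (hn : g ^ n = 1) : g = 1 := by
  obtain ⟨a, ha⟩ := eq_smul_one_of_commute x.1.1 _ _ r hKL h0 h1 h2 hx hcheck g.1.1
    (congrArg (fun y : SU 3 F16 4 => y.1.1) hg.eq)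
    (by
      have := congrArg (fun y : SU 3 F16 4 => y.1.1) hn
      simpa using this)
  have hc : g ∈ Subgroup.center (SU 3 F16 4) := by
    refine Subgroup.mem_center_iff.mpr fun h => Subtype.ext (Subtype.ext ?_)
    change h.1.1 * g.1.1 = g.1.1 * h.1.1
    rw [ha]
    simp
  rwa [center_SU34 F16.card, Subgroup.mem_bot] at hc

theorem eq_one_of_commute_suU (g : SU 3 F16 4) (hg : Commute g suU) (hn : g ^ 2 = 1) : g = 1 :=
  eq_one_of_commute suU cycU cycUInv (relTri relU) (by decide +kernel) (by decide +kernel)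
    (by decide +kernel) (by decide +kernel) (by decide +kernel) check_u g hg hn

theorem eq_one_of_commute_suX (g : SU 3 F16 4) (hg : Commute g suX) {r : ℕ}
    (hr : r = 2 ∨ r = 3 ∨ r = 5) (hn : g ^ r = 1) : g = 1 := by
  have hchk : ∀ a b c : F16, powTri (relTri relX) (a, b, c) r = (1, 0, 0) → b = 0 ∧ c = 0 := by
    rcases hr with rfl | rfl | rfl
    exacts [check_x2, check_x3, check_x5]
  exact eq_one_of_commute suX cycX cycXInv (relTri relX) (by decide +kernel) (by decide +kernel)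
    (by decide +kernel) (by decide +kernel) (by decide +kernel) hchk g hg hn

theorem dvd_card_suU : Nat.card (SU 3 F16 4) = 62400 := card_SU34 F16.card

/-- If the prime `p` divides `|U|` once and `x`, `y` have order `p`, some conjugate of `y`
generates `⟨x⟩`. -/
theorem exists_conj_zpowers {U : Type*} [Group U] [Finite U] {p : ℕ} [Fact p.Prime]
    (hp : ¬ p ^ 2 ∣ Nat.card U) {x y : U} (hx : orderOf x = p) (hy : orderOf y = p) :
    ∃ c : U, x ∈ Subgroup.zpowers (c * y * c⁻¹) := by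
  have hfac : p ^ (Nat.card U).factorization p = p := by
    have h1 : p ∣ Nat.card U := hx ▸ orderOf_dvd_natCard x
    have hne : Nat.card U ≠ 0 := Nat.card_pos.ne'
    have hge : 1 ≤ (Nat.card U).factorization p :=
      (Fact.out : p.Prime).factorization_pos_of_dvd hne h1
    have hlt : (Nat.card U).factorization p < 2 := by
      by_contra h
      exact hp ((pow_dvd_pow p (not_lt.mp h)).trans (Nat.ordProj_dvd _ _))
    rw [show (Nat.card U).factorization p = 1 by omega, pow_one]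
  let P : Sylow p U := Sylow.ofCard (Subgroup.zpowers x) (by rw [Nat.card_zpowers, hx, hfac])
  let Q : Sylow p U := Sylow.ofCard (Subgroup.zpowers y) (by rw [Nat.card_zpowers, hy, hfac])
  obtain ⟨c, hc⟩ := MulAction.exists_smul_eq U Q P
  refine ⟨c, ?_⟩
  have hxm : x ∈ (c • Q : Sylow p U) := hc ▸ Subgroup.mem_zpowers x
  obtain ⟨z, hz, rfl⟩ := hxm
  obtain ⟨k, rfl⟩ := Subgroup.mem_zpowers_iff.mp hz
  exact ⟨k, (conj_zpow).trans rfl⟩

/-- the non-edges of the prime graph of `SU(3,4)` -/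
theorem eq_one_of_commute_prime {r s : ℕ}
    (h : (s = 13 ∧ (r = 2 ∨ r = 3 ∨ r = 5)) ∨ (s = 3 ∧ r = 2)) (g y : SU 3 F16 4)
    (hy : orderOf y = s) (hn : g ^ r = 1) (hg : Commute g y) : g = 1 := by
  have hcard := dvd_card_suU
  obtain ⟨x, hxs, hp, hx1⟩ : ∃ x : SU 3 F16 4, orderOf x = s ∧ ¬ s ^ 2 ∣ 62400 ∧
      ∀ g : SU 3 F16 4, Commute g x → g ^ r = 1 → g = 1 := by
    rcases h with ⟨rfl, hr⟩ | ⟨rfl, rfl⟩
    · exact ⟨suX, orderOf_suX, by norm_num, fun g hg hn => eq_one_of_commute_suX g hg hr hn⟩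
    · exact ⟨suU, orderOf_suU, by norm_num, eq_one_of_commute_suU⟩
  have : Fact s.Prime := ⟨by rcases h with ⟨rfl, -⟩ | ⟨rfl, -⟩ <;> norm_num⟩
  obtain ⟨c, hc⟩ := exists_conj_zpowers (hcard.symm ▸ hp) hxs hy
  obtain ⟨k, hk⟩ := Subgroup.mem_zpowers_iff.mp hc
  have h1 : Commute (c * g * c⁻¹) x := hk ▸ (hg.conj c).zpow_right k
  have h2 := hx1 _ h1 (by rw [conj_pow, hn, mul_one, mul_inv_cancel])
  have h3 := congrArg (fun z => c⁻¹ * z * c) h2
  simpa [mul_assoc] using h3

end Cfsg.Agent.U34
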